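import Groth.Agent.L10.EssConst.Tri
import Groth.Agent.L10.DerTrunc

/-! Essentially constant systems in the derived category from their cohomology. -/

universe v u w

open CategoryTheory CategoryTheory.Limits CategoryTheory.Pretriangulated CategoryTheory.Triangulated Opposite

set_option backward.defeqAttrib.useBackward true
set_option backward.isDefEq.respectTransparency false
namespace Groth.L10.EssConst

variable {A : Type u} [Category.{v} A] [Abelian A] [HasDerivedCategory.{w} A]

local notation "tt" => DerivedCategory.TStructure.t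
local notation "H" => DerivedCategory.homologyFunctor A

theorem H_injective {m : ℤ} {Y Z : DerivedCategory A} [Y.IsLE m] [Z.IsGE m] {f g : Y ⟶ Z}
    (h : (H m).map f = (H m).map g) : f = g := by
  rw [← sub_eq_zero]
  exact eq_zero_of_H_eq_zero m _ (by rw [Functor.map_sub, h, sub_self])

theorem H_surjective {m : ℤ} {Y Z : DerivedCategory A} [Y.IsLE m] [Y.IsGE m] [Z.IsLE m] [Z.IsGE m]
    (g : (H m).obj Y ⟶ (H m).obj Z) : ∃ f : Y ⟶ Z, (H m).map f = g := by
  obtain ⟨eY⟩ := exists_iso_single_H Y m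
  obtain ⟨eZ⟩ := exists_iso_single_H Z m
  let θY := (H m).mapIso eY ≪≫ (DerivedCategory.singleFunctorCompHomologyFunctorIso A m).app ((H m).obj Y)
  let θZ := (H m).mapIso eZ ≪≫ (DerivedCategory.singleFunctorCompHomologyFunctorIso A m).app ((H m).obj Z)
  refine ⟨eY.hom ≫ (DerivedCategory.singleFunctor A m).map (θY.inv ≫ g ≫ θZ.hom) ≫ eZ.inv, ?_⟩
  have hn := NatIso.naturality_1 (DerivedCategory.singleFunctorCompHomologyFunctorIso A m) (θY.inv ≫ g ≫ θZ.hom)
  simp only [Functor.comp_map, Functor.id_map] at hn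
  rw [Functor.map_comp, Functor.map_comp]
  rw [← cancel_epi θY.inv, ← cancel_mono θZ.hom]
  simp only [θY, θZ, Iso.trans_inv, Iso.trans_hom, Functor.mapIso_inv, Functor.mapIso_hom, Category.assoc,
    Iso.app_inv, Iso.app_hom]
  rw [Iso.map_inv_hom_id_assoc]
  erw [Iso.map_inv_hom_id_assoc]
  simpa [θY, θZ] using hn

theorem isLE_of_isZero {Y : DerivedCategory A} {m : ℤ} (h : ∀ i, m < i → IsZero ((H i).obj Y)) : Y.IsLE m :=
  (DerivedCategory.isLE_iff Y m).2 h

theorem isGE_of_isZero {Y : DerivedCategory A} {m : ℤ} (h : ∀ i, i < m → IsZero ((H i).obj Y)) : Y.IsGE m :=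
  (DerivedCategory.isGE_iff Y m).2 h

theorem rep_heart (X : ARSys.PS (DerivedCategory A)) (m : ℤ)
    (hX : ∀ (n : ℕ) (i : ℤ), i ≠ m → IsZero ((H i).obj (X.obj (op n))))
    (hH : ∃ (B : A) (c : (Functor.const ℕᵒᵖ).obj B ⟶ X ⋙ H m), DerCA.IsEssConstant (X ⋙ H m) B c) :
    ∃ (L : DerivedCategory A) (i : ℕ) (s : X.obj (op i) ⟶ L), Rep X L i s := by
  obtain ⟨B, c, i, s, hs, htr⟩ := hH
  let L := (DerivedCategory.singleFunctor A m).obj B
  let θ := (DerivedCategory.singleFunctorCompHomologyFunctorIso A m).app B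
  have hge : ∀ n, (X.obj (op n)).IsGE m := fun n => isGE_of_isZero fun i hi => hX n i (by omega)
  have hle : ∀ n, (X.obj (op n)).IsLE m := fun n => isLE_of_isZero fun i hi => hX n i (by omega)
  have : DerivedCategory.IsGE L m := inferInstance
  have : DerivedCategory.IsLE L m := inferInstance
  choose c' hc' using fun n : ℕ => H_surjective (m := m) (Y := L) (Z := X.obj (op n)) (θ.hom ≫ c.app (op n))
  obtain ⟨s', hs'⟩ := H_surjective (m := m) (Y := X.obj (op i)) (Z := L) (s ≫ θ.inv)
  have hnat : ∀ {a b : ℕ} (h : a ≤ b), c' b ≫ ARSys.tr X h = c' a := fun {a b} h => by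
    refine H_injective (m := m) ?_
    rw [Functor.map_comp, hc', hc', Category.assoc]
    exact congrArg (θ.hom ≫ ·) (c_tr c h)
  let cc : (Functor.const ℕᵒᵖ).obj L ⟶ X :=
    { app := fun n => c' n.unop
      naturality := fun a b f => by
        simp only [Functor.const_obj_obj, Functor.const_obj_map, Category.id_comp]
        exact (hnat (leOfHom f.unop)).symm }
  refine ⟨L, rep_of_isEssConstant (c := cc) ⟨i, s', ?_, fun j => ?_⟩⟩
  · change c' i ≫ s' = 𝟙 L
    refine H_injective (m := m) ?_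
    simp [hc', hs', reassoc_of% hs]
  · obtain ⟨k, hi, hj, e⟩ := htr j
    refine ⟨k, hi, hj, H_injective (m := m) ?_⟩
    simp only [cc, Functor.map_comp, hs', hc', Category.assoc, Iso.inv_hom_id_assoc]
    exact e

theorem main_rep : ∀ (k : ℕ) (X : ARSys.PS (DerivedCategory A)) (a : ℤ),
    (∀ (n : ℕ) (i : ℤ), i < a ∨ a + k < i → IsZero ((H i).obj (X.obj (op n)))) →
    (∀ i : ℤ, ∃ (B : A) (c : (Functor.const ℕᵒᵖ).obj B ⟶ X ⋙ H i), DerCA.IsEssConstant (X ⋙ H i) B c) →
    ∃ (L : DerivedCategory A) (i : ℕ) (s : X.obj (op i) ⟶ L), Rep X L i s := by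
  intro k
  induction k with
  | zero => exact fun X a hX hH => rep_heart X a (fun n i hi => hX n i (by omega)) (hH a)
  | succ k ih =>
    intro X a hX hH
    let m : ℤ := a + k + 1
    have hm : a + ((k + 1 : ℕ) : ℤ) = m := by push_cast; omega
    have hLT : ∀ (n : ℕ) (i : ℤ), i < a ∨ a + k < i → IsZero ((H i).obj ((X ⋙ (tt).truncLT m).obj (op n))) := by
      intro n i hi
      by_cases h : m ≤ i
      · exact isZero_H_LT m i h _
      · have := isIso_H_ι m i (by omega) (X.obj (op n))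
        exact (hX n i (Or.inl (by omega))).of_iso (asIso ((H i).map (((tt).truncLTι m).app (X.obj (op n)))))
    have hLT' : ∀ i : ℤ, ∃ (B : A) (c : (Functor.const ℕᵒᵖ).obj B ⟶ (X ⋙ (tt).truncLT m) ⋙ H i),
        DerCA.IsEssConstant ((X ⋙ (tt).truncLT m) ⋙ H i) B c := fun i => by
      by_cases h : m ≤ i
      · exact ⟨_, exists_isEssConstant (rep_of_isZero (X := (X ⋙ (tt).truncLT m) ⋙ H i)
          fun n => isZero_H_LT m i h _).choose_spec.choose_spec.choose_spec⟩
      · let φ : (X ⋙ (tt).truncLT m) ⋙ H i ⟶ X ⋙ H i :=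
          Functor.whiskerRight (Functor.whiskerLeft X ((tt).truncLTι m)) (H i)
        have : IsIso φ := by
          rw [NatTrans.isIso_iff_isIso_app]
          exact fun n => isIso_H_ι m i (by omega) _
        obtain ⟨B, c, hc⟩ := hH i
        exact ⟨B, _, isEssConstant_of_iso (asIso φ).symm hc⟩
    have hGE : ∀ (n : ℕ) (i : ℤ), i ≠ m → IsZero ((H i).obj ((X ⋙ (tt).truncGE m).obj (op n))) := by
      intro n i hi
      by_cases h : i < m
      · exact isZero_H_GE m i h _
      · have := isIso_H_π m i (by omega) (X.obj (op n))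
        exact (hX n i (Or.inr (by omega))).of_iso (asIso ((H i).map (((tt).truncGEπ m).app (X.obj (op n))))).symm
    have hGE' : ∃ (B : A) (c : (Functor.const ℕᵒᵖ).obj B ⟶ (X ⋙ (tt).truncGE m) ⋙ H m),
        DerCA.IsEssConstant ((X ⋙ (tt).truncGE m) ⋙ H m) B c := by
      let φ : X ⋙ H m ⟶ (X ⋙ (tt).truncGE m) ⋙ H m :=
        Functor.whiskerRight (Functor.whiskerLeft X ((tt).truncGEπ m)) (H m)
      have : IsIso φ := by
        rw [NatTrans.isIso_iff_isIso_app]
        exact fun n => isIso_H_π m m le_rfl _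
      obtain ⟨B, c, hc⟩ := hH m
      exact ⟨B, _, isEssConstant_of_iso (asIso φ) hc⟩
    exact rep_mid (Functor.whiskerLeft X ((tt).truncLTι m)) (Functor.whiskerLeft X ((tt).truncGEπ m))
      (Functor.whiskerLeft X ((tt).truncGEδLT m)) (fun n => (tt).triangleLTGE_distinguished m (X.obj n))
      (ih _ a hLT hLT') (rep_heart _ m hGE hGE')

theorem main_result (X : ARSys.PS (DerivedCategory A)) (a b : ℤ) (hab : a ≤ b)
    (hX : ∀ (n : ℕ) (i : ℤ), i < a ∨ b < i → IsZero ((H i).obj (X.obj (op n))))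
    (hH : ∀ i : ℤ, ∃ (B : A) (c : (Functor.const ℕᵒᵖ).obj B ⟶ X ⋙ H i), DerCA.IsEssConstant (X ⋙ H i) B c) :
    ∃ (L : DerivedCategory A) (c : (Functor.const ℕᵒᵖ).obj L ⟶ X), DerCA.IsEssConstant X L c := by
  obtain ⟨L, i, s, h⟩ := main_rep (b - a).toNat X a (fun n i hi => hX n i (by omega)) hH
  exact ⟨L, exists_isEssConstant h⟩

end Groth.L10.EssConst
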