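import Groth.Prelude.Def_DerCA
import Mathlib.CategoryTheory.Triangulated.Pretriangulated

/-! Essentially constant inverse systems in a pretriangulated category: two out of three. -/

universe v u

open CategoryTheory CategoryTheory.Limits CategoryTheory.Pretriangulated Opposite

set_option backward.defeqAttrib.useBackward true
set_option backward.isDefEq.respectTransparency false
namespace Groth.L10.EssConst

variable {D : Type u} [Category.{v} D]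

theorem tr_trans (X : ARSys.PS D) {a b c : ℕ} (h : a ≤ b) (h' : b ≤ c) :
    ARSys.tr X h' ≫ ARSys.tr X h = ARSys.tr X (h.trans h') := by
  simp only [ARSys.tr, ← X.map_comp]; rfl

theorem tr_trans_assoc (X : ARSys.PS D) {a b c : ℕ} (h : a ≤ b) (h' : b ≤ c) {T : D} (f : X.obj (op a) ⟶ T) :
    ARSys.tr X h' ≫ ARSys.tr X h ≫ f = ARSys.tr X (h.trans h') ≫ f := by rw [← Category.assoc, tr_trans]

theorem tr_nat {X Y : ARSys.PS D} (α : Y ⟶ X) {a b : ℕ} (h : a ≤ b) :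
    ARSys.tr Y h ≫ α.app (op a) = α.app (op b) ≫ ARSys.tr X h := α.naturality _

theorem c_tr {X : ARSys.PS D} {L : D} (c : (Functor.const ℕᵒᵖ).obj L ⟶ X) {a b : ℕ} (h : a ≤ b) :
    c.app (op b) ≫ ARSys.tr X h = c.app (op a) := by
  simp only [ARSys.tr, ← c.naturality]; simp

/-- `s` makes `L` the value of the system `X`: maps out of `L` are the eventual maps out of the system. -/
structure Rep (X : ARSys.PS D) (L : D) (i : ℕ) (s : X.obj (op i) ⟶ L) : Prop where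
  inj : ∀ {T : D} (φ φ' : L ⟶ T) (k : ℕ) (h : i ≤ k),
    ARSys.tr X h ≫ s ≫ φ = ARSys.tr X h ≫ s ≫ φ' → φ = φ'
  surj : ∀ {T : D} (m : ℕ) (φ : X.obj (op m) ⟶ T),
    ∃ (k : ℕ) (hi : i ≤ k) (hm : m ≤ k) (ψ : L ⟶ T), ARSys.tr X hm ≫ φ = ARSys.tr X hi ≫ s ≫ ψ

theorem Rep.later {X : ARSys.PS D} {L : D} {i : ℕ} {s : X.obj (op i) ⟶ L} (h : Rep X L i s) {k : ℕ} (hk : i ≤ k) :
    Rep X L k (ARSys.tr X hk ≫ s) where
  inj φ φ' j hj e := h.inj φ φ' j (hk.trans hj) (by simpa [tr_trans_assoc] using e)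
  surj m φ := by
    obtain ⟨j, hi, hm, ψ, e⟩ := h.surj m φ
    refine ⟨max j k, le_max_right _ _, hm.trans (le_max_left _ _), ψ, ?_⟩
    rw [← tr_trans X hm (le_max_left j k), Category.assoc, e, tr_trans_assoc, Category.assoc, tr_trans_assoc]

theorem rep_of_isEssConstant {X : ARSys.PS D} {L : D} {c : (Functor.const ℕᵒᵖ).obj L ⟶ X}
    (h : DerCA.IsEssConstant X L c) : ∃ (i : ℕ) (s : X.obj (op i) ⟶ L), Rep X L i s := by
  obtain ⟨i, s, hs, htr⟩ := h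
  refine ⟨i, s, ⟨fun φ φ' k hk e => ?_, fun m φ => ?_⟩⟩
  · have := congrArg (c.app (op k) ≫ ·) e
    simp only [← Category.assoc, c_tr, hs] at this
    simpa using this
  · obtain ⟨k, hi, hm, e⟩ := htr m
    exact ⟨k, hi, hm, c.app (op m) ≫ φ, by rw [e]; simp⟩

theorem exists_isEssConstant {X : ARSys.PS D} {L : D} {i : ℕ} {s : X.obj (op i) ⟶ L} (h : Rep X L i s) :
    ∃ c : (Functor.const ℕᵒᵖ).obj L ⟶ X, DerCA.IsEssConstant X L c := by
  choose k hi hm ψ e using fun n => h.surj n (𝟙 (X.obj (op n)))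
  have nat : ∀ {a b : ℕ} (hab : a ≤ b), ψ b ≫ ARSys.tr X hab = ψ a := by
    intro a b hab
    refine h.inj _ _ (max (k a) (k b)) ((hi a).trans (le_max_left _ _)) ?_
    have ea := congrArg (ARSys.tr X (le_max_left (k a) (k b)) ≫ ·) (e a)
    have eb := congrArg (ARSys.tr X (le_max_right (k a) (k b)) ≫ · ≫ ARSys.tr X hab) (e b)
    simp only [Category.comp_id, Category.assoc, tr_trans, tr_trans_assoc] at ea eb
    rw [← eb, ← ea]
  let c : (Functor.const ℕᵒᵖ).obj L ⟶ X :=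
    { app := fun n => ψ n.unop
      naturality := fun a b f => by
        simp only [Functor.const_obj_obj, Functor.const_obj_map, Category.id_comp]
        exact (nat (leOfHom f.unop)).symm }
  refine ⟨c, i, s, ?_, fun j => ⟨k j, hi j, hm j, by simpa [c] using e j⟩⟩
  refine h.inj _ _ (k i) (hi i) ?_
  have ei := congrArg (· ≫ s) (e i)
  simp only [Category.comp_id, Category.assoc] at ei
  simpa [c] using ei.symm

variable [Preadditive D] [HasZeroObject D] [HasShift D ℤ]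
  [∀ n : ℤ, (shiftFunctor D n).Additive] [Pretriangulated D]

theorem rep_mid {Y X Z : ARSys.PS D} (α : Y ⟶ X) (β : X ⟶ Z) (δ : Z ⟶ Y ⋙ shiftFunctor D (1 : ℤ))
    (hT : ∀ n, Triangle.mk (α.app n) (β.app n) (δ.app n) ∈ distTriang D)
    (hY : ∃ (L : D) (i : ℕ) (s : Y.obj (op i) ⟶ L), Rep Y L i s)
    (hZ : ∃ (L : D) (i : ℕ) (s : Z.obj (op i) ⟶ L), Rep Z L i s) :
    ∃ (L : D) (i : ℕ) (s : X.obj (op i) ⟶ L), Rep X L i s := by
  obtain ⟨L₁, i₁, s₁, hY⟩ := hY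
  obtain ⟨L₂, i₂, s₂, hZ⟩ := hZ
  have δnat : ∀ {a b : ℕ} (h : a ≤ b),
      ARSys.tr Z h ≫ δ.app (op a) = δ.app (op b) ≫ (ARSys.tr Y h)⟦(1 : ℤ)⟧' := fun h => δ.naturality _
  obtain ⟨k, hk₂, hk₁, δ₀, hδ⟩ := hZ.surj i₁ (δ.app (op i₁) ≫ s₁⟦(1 : ℤ)⟧')
  replace hY := hY.later hk₁
  replace hZ := hZ.later hk₂
  generalize hs₁' : ARSys.tr Y hk₁ ≫ s₁ = t₁ at hY
  generalize hs₂' : ARSys.tr Z hk₂ ≫ s₂ = t₂ at hZ
  have hcomm : δ.app (op k) ≫ t₁⟦(1 : ℤ)⟧' = t₂ ≫ δ₀ := by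
    rw [← hs₁', ← hs₂', Functor.map_comp, ← Category.assoc, ← δnat, Category.assoc, hδ, Category.assoc]
  obtain ⟨L, g, f₀, hL⟩ := distinguished_cocone_triangle₂ δ₀
  obtain ⟨σ, hσ₁, hσ₂⟩ := complete_distinguished_triangle_morphism₂ _ _ (hT (op k)) hL t₁ t₂ hcomm
  dsimp at g f₀ hσ₁ hσ₂
  have natα : ∀ {a b : ℕ} (h : a ≤ b), ARSys.tr Y h ≫ α.app (op a) = α.app (op b) ≫ ARSys.tr X h := tr_nat α
  have natβ : ∀ {a b : ℕ} (h : a ≤ b), ARSys.tr X h ≫ β.app (op a) = β.app (op b) ≫ ARSys.tr Z h := tr_nat β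
  refine ⟨L, k, σ, ⟨fun {T} φ φ' j hj he => ?_, fun {T} m φ => ?_⟩⟩
  · have h0 : ARSys.tr X hj ≫ σ ≫ (φ - φ') = 0 := by simp [Preadditive.comp_sub, he]
    rw [← sub_eq_zero]
    generalize φ - φ' = χ at h0
    have h1 : g ≫ χ = 0 := hY.inj (g ≫ χ) 0 j hj (by
      rw [comp_zero, comp_zero, ← reassoc_of% hσ₁, reassoc_of% (natα hj), h0, comp_zero])
    obtain ⟨ω, hω⟩ := Triangle.yoneda_exact₂ _ hL χ h1
    dsimp at ω hω
    have h2 : β.app (op j) ≫ ARSys.tr Z hj ≫ t₂ ≫ ω = 0 := by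
      rw [← reassoc_of% (natβ hj), reassoc_of% hσ₂, ← hω, h0]
    obtain ⟨ξ, hξ⟩ := Triangle.yoneda_exact₃ _ (hT (op j)) (ARSys.tr Z hj ≫ t₂ ≫ ω) h2
    dsimp at ξ hξ
    let e := (shiftEquiv D (1 : ℤ)).counitIso.app T
    obtain ⟨ξ₀, hξ₀⟩ := (shiftFunctor D (1 : ℤ)).map_surjective (ξ ≫ e.inv)
    obtain ⟨j', hj'k, hj'j, ξ₁, hξ₁⟩ := hY.surj j ξ₀
    have h3 : ω = δ₀ ≫ ξ₁⟦(1 : ℤ)⟧' ≫ e.hom := by
      refine hZ.inj _ _ j' hj'k ?_
      rw [← tr_trans_assoc Z hj hj'j, hξ, reassoc_of% (δnat hj'j)]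
      have : ξ = ξ₀⟦(1 : ℤ)⟧' ≫ e.hom := by rw [hξ₀]; simp
      rw [this, ← Functor.map_comp_assoc, hξ₁, Functor.map_comp, Functor.map_comp, ← reassoc_of% hcomm,
        reassoc_of% (δnat hj'k)]
      simp
    rw [hω, h3]
    have := comp_distTriang_mor_zero₂₃ _ hL
    dsimp at this
    rw [reassoc_of% this, zero_comp]
  · obtain ⟨j, hjk, hjm, ψ, hψ⟩ := hY.surj m (α.app (op m) ≫ φ)
    have h1 : δ₀ ≫ ψ⟦(1 : ℤ)⟧' = 0 := hZ.inj _ 0 j hjk (by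
      have hz : δ.app (op j) ≫ (α.app (op j))⟦(1 : ℤ)⟧' = 0 := comp_distTriang_mor_zero₃₁ _ (hT (op j))
      rw [comp_zero, comp_zero, ← reassoc_of% hcomm, reassoc_of% (δnat hjk), ← Functor.map_comp, ← Functor.map_comp,
        ← hψ, reassoc_of% (natα hjm), Functor.map_comp, reassoc_of% hz, zero_comp])
    obtain ⟨ξ, hξ⟩ := Triangle.yoneda_exact₂ _ (rot_of_distTriang _ (rot_of_distTriang _ hL)) (ψ⟦(1 : ℤ)⟧') h1
    dsimp at ξ hξ
    obtain ⟨φ₀, rfl⟩ := (shiftFunctor D (1 : ℤ)).map_surjective ξ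
    have hφ₀ : g ≫ (-φ₀) = ψ := (shiftFunctor D (1 : ℤ)).map_injective (by rw [hξ]; simp)
    let η := ARSys.tr X hjm ≫ φ - ARSys.tr X hjk ≫ σ ≫ (-φ₀)
    have h2 : α.app (op j) ≫ η = 0 := by
      simp only [η, Preadditive.comp_sub, ← reassoc_of% (natα hjm), ← reassoc_of% (natα hjk), reassoc_of% hσ₁, hψ,
        hφ₀, sub_self]
    obtain ⟨ω₀, hω₀⟩ := Triangle.yoneda_exact₂ _ (hT (op j)) η h2
    dsimp at ω₀ hω₀
    obtain ⟨j', hj'k, hj'j, ω, hω⟩ := hZ.surj j ω₀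
    refine ⟨j', hj'k, hjm.trans hj'j, -φ₀ + f₀ ≫ ω, ?_⟩
    have h3 : ARSys.tr X hj'j ≫ η = ARSys.tr X hj'k ≫ σ ≫ f₀ ≫ ω := by
      rw [hω₀, reassoc_of% (natβ hj'j), hω, ← reassoc_of% (natβ hj'k), reassoc_of% hσ₂]
    simp only [η, Preadditive.comp_sub, tr_trans_assoc] at h3
    rw [Preadditive.comp_add, Preadditive.comp_add, ← h3]
    abel

omit [HasZeroObject D] [∀ n : ℤ, (shiftFunctor D n).Additive] [Pretriangulated D] [HasShift D ℤ] in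
theorem rep_of_isZero {X : ARSys.PS D} (hX : ∀ n, IsZero (X.obj n)) :
    ∃ (L : D) (i : ℕ) (s : X.obj (op i) ⟶ L), Rep X L i s :=
  ⟨X.obj (op 0), 0, 𝟙 _, ⟨fun _ _ _ _ _ => (hX _).eq_of_src _ _,
    fun m _ => ⟨m, Nat.zero_le _, le_rfl, 0, (hX _).eq_of_src _ _⟩⟩⟩

omit [Preadditive D] [HasZeroObject D] [HasShift D ℤ] in
theorem isEssConstant_of_iso {X X' : ARSys.PS D} (e : X ≅ X') {L : D} {c : (Functor.const ℕᵒᵖ).obj L ⟶ X}
    (h : DerCA.IsEssConstant X L c) : DerCA.IsEssConstant X' L (c ≫ e.hom) := by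
  obtain ⟨i, s, hs, htr⟩ := h
  refine ⟨i, e.inv.app (op i) ≫ s, by simp [hs], fun j => ?_⟩
  obtain ⟨k, hi, hj, ht⟩ := htr j
  refine ⟨k, hi, hj, ?_⟩
  have h1 := tr_nat e.hom hj
  have h2 := tr_nat e.inv hi
  rw [← cancel_epi (e.hom.app (op k))]
  simp only [← Category.assoc] 
  rw [← h1, ht]
  simp only [Category.assoc, NatTrans.comp_app]
  rw [← reassoc_of% (tr_nat e.hom hi)]
  simp

end Groth.L10.EssConst
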